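import Cfsg.Agent.Lib.CosetTable.Sound
import Cfsg.Agent.Lib.CosetTable.SUPresWinThree.Data

/-! Generated certificate data for the coset table `SUPresWinThree`. -/

namespace Cfsg.Agent.Lib.CosetTable.SUPresWinThree

open Cfsg.Agent.Lib.CosetTable

set_option Elab.async false
set_option maxRecDepth 10000

theorem rows_ok_run1 : rangeAll (tab.rowOK cert 24873) 512 0 = true := by decide +kernel

theorem rows_ok_run2 : rangeAll (tab.rowOK cert 24873) 512 512 = true := by decide +kernel

theorem rows_ok_run3 : rangeAll (tab.rowOK cert 24873) 512 1024 = true := by decide +kernel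

theorem rows_ok_run4 : rangeAll (tab.rowOK cert 24873) 512 1536 = true := by decide +kernel

theorem rows_ok_run5 : rangeAll (tab.rowOK cert 24873) 112 2048 = true := by decide +kernel

theorem rows_ok : Below (tab.rowOK cert 24873) 2160 :=
  (((((Below.zero _).step (b := 512) rows_ok_run1 rfl).step (b := 1024) rows_ok_run2 rfl).step (b := 1536) rows_ok_run3 rfl).step (b := 2048) rows_ok_run4 rfl).step (b := 2160) rows_ok_run5 rfl

end Cfsg.Agent.Lib.CosetTable.SUPresWinThree
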